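import Groth.Agent.QCGroth72.Separator
import Groth.Agent.QCGroth72.PushColim
import Groth.Agent.QC70.UnitSub
import Mathlib.Algebra.Category.ModuleCat.Sheaf.PullbackFree
import Mathlib.AlgebraicGeometry.IdealSheaf.Functorial
import Mathlib.AlgebraicGeometry.Morphisms.Affine
import Mathlib.AlgebraicGeometry.Morphisms.ClosedImmersion

/-!
A quasi-compact scheme whose structure sheaf is projective among quasi-coherent modules is affine.
-/

set_option autoImplicit false
set_option backward.isDefEq.respectTransparency.types false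

noncomputable section

universe u

open CategoryTheory Limits AlgebraicGeometry TopologicalSpace Opposite
open Groth.Agent.QC70

namespace Groth.Agent.QCAffine72

variable {X : Scheme.{u}}

/-- The structure sheaf as a quasi-coherent module. -/
def unitQC (X : Scheme.{u}) : QCohCat.QCoh X := ⟨unitMod X, isQuasicoherent_unit⟩

section

variable {Z : Scheme.{u}} (i : Z ⟶ X) [IsClosedImmersion i]

/-- The direct image of the structure sheaf of a closed subscheme. -/
def pushUnit : X.Modules := (Scheme.Modules.pushforward i).obj (unitMod Z)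

/-- The quotient map to it. -/
def toPushUnit : unitMod X ⟶ pushUnit i :=
  SheafOfModules.unitToPushforwardObjUnit i.toRingCatSheafHom

omit [IsClosedImmersion i] in
theorem toPushUnit_app (W : X.Opens) (a : Γ(X, W)) :
    (toPushUnit i).app W (toUnit a) = (i.app W a : Γ(Z, i ⁻¹ᵁ W)) := rfl

instance : (pushUnit i).IsQuasicoherent :=
  QCqs72.isQuasicoherent_pushforward (M := unitMod Z) i

omit [IsClosedImmersion i] in
theorem not_mem_basicOpen_of_app_eq_zero (a : Γ(X, ⊤))
    (h : (toPushUnit i).app ⊤ (toUnit a) = 0) (z : Z) : i z ∉ X.basicOpen a := by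
  intro hz
  have h1 : z ∈ i ⁻¹ᵁ X.basicOpen a := hz
  rw [Scheme.preimage_basicOpen] at h1
  rw [show i.app ⊤ a = 0 from (toPushUnit_app i ⊤ a).symm.trans h, Scheme.basicOpen_zero] at h1
  exact h1

omit [IsClosedImmersion i] in
theorem mem_basicOpen_of_app_eq_one (a : Γ(X, ⊤))
    (h : (toPushUnit i).app ⊤ (toUnit a) = (1 : Γ(Z, i ⁻¹ᵁ ⊤))) (z : Z) :
    i z ∈ X.basicOpen a := by
  have h1 : z ∈ i ⁻¹ᵁ X.basicOpen a := by
    rw [Scheme.preimage_basicOpen,
      show i.app ⊤ a = 1 from (toPushUnit_app i ⊤ a).symm.trans h,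
      Scheme.basicOpen_of_isUnit _ isUnit_one]
    trivial
  exact h1

end

theorem exists_affine_basicOpen [CompactSpace X] [Projective (unitQC X)] {x : X}
    (hx : IsClosed ({x} : Set X)) :
    ∃ a : Γ(X, ⊤), x ∈ X.basicOpen a ∧ IsAffineOpen (X.basicOpen a) := by
  obtain ⟨_, ⟨U, hU, rfl⟩, hxU, -⟩ :=
    X.isBasis_affineOpens.exists_subset_of_mem_open (Set.mem_univ x) isOpen_univ
  let I := Scheme.IdealSheafData.vanishingIdeal (⟨(U : Set X)ᶜ, U.2.isClosed_compl⟩ : Closeds X)
  let J := Scheme.IdealSheafData.vanishingIdeal (⟨{x}, hx⟩ : Closeds X)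
  let i := I.subschemeι
  let j := J.subschemeι
  have hi : Set.range i = (U : Set X)ᶜ := by
    rw [Scheme.IdealSheafData.range_subschemeι, Scheme.IdealSheafData.coe_support_vanishingIdeal]
    rfl
  have hj : Set.range j = {x} := by
    rw [Scheme.IdealSheafData.range_subschemeι, Scheme.IdealSheafData.coe_support_vanishingIdeal]
    rfl
  let p := toPushUnit i
  let q := toPushUnit j
  let K : X.Modules := kernel p
  have : K.IsQuasicoherent := QC70.isQuasicoherent_kernel p
  let ψ : K ⟶ pushUnit j := kernel.ι p ≫ q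
  have : Epi ψ := by
    refine epi_of_surjective_stalkMapM _ fun y e => ?_
    by_cases hy : y ∈ Set.range j
    · obtain ⟨W, hyW, s, rfl⟩ := germM_exist e
      have hyU : y ∈ U := by
        rw [hj] at hy
        exact (Set.mem_singleton_iff.mp hy) ▸ hxU
      obtain ⟨_, ⟨V, hV, rfl⟩, hyV, hVle⟩ :=
        X.isBasis_affineOpens.exists_subset_of_mem_open (show y ∈ W ⊓ U from ⟨hyW, hyU⟩) (W ⊓ U).2
      have hVle' : V ≤ W ⊓ U := hVle
      obtain ⟨a, ha⟩ := j.app_surjective V hV (res (pushUnit j) (hVle'.trans inf_le_left) s)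
      have hbot : i ⁻¹ᵁ V = ⊥ := by
        ext z
        exact ⟨fun h => (hi.subset ⟨z, rfl⟩ (hVle' h).2).elim, fun h => h.elim⟩
      have hp : p.app V (toUnit a) = 0 := by
        refine section_ext (unitMod I.subscheme) _ _ fun z hz => ?_
        exact (hbot.le hz).elim
      obtain ⟨t, ht⟩ := exists_kernel_app_eq p V (toUnit a) hp
      refine ⟨germM K V y hyV t, ?_⟩
      rw [stalkMapM_germ, ← germM_res (hVle'.trans inf_le_left) hyV s]
      refine congrArg (germM _ V y hyV) ?_
      change q.app V ((kernel.ι p).app V t) = _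
      rw [ht]
      exact ha
    · have := subsingleton_stalk_pushforward_unit j hy
      exact ⟨0, this.elim _ _⟩
  let ψQ : (⟨K, (inferInstance : K.IsQuasicoherent)⟩ : QCohCat.QCoh X) ⟶ ⟨pushUnit j, (inferInstance : (pushUnit j).IsQuasicoherent)⟩ :=
    ObjectProperty.homMk ψ
  have : Epi ψQ := by
    have : Epi ((QCohCat.isQCoh X).ι.map ψQ) := (inferInstance : Epi ψ)
    exact (QCohCat.isQCoh X).ι.epi_of_epi_map inferInstance
  let g := Projective.factorThru (ObjectProperty.homMk q : unitQC X ⟶ ⟨pushUnit j, (inferInstance : (pushUnit j).IsQuasicoherent)⟩) ψQ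
  have hg : g.hom ≫ ψ = q := congrArg (fun k => k.hom)
    (Projective.factorThru_comp (ObjectProperty.homMk q : unitQC X ⟶ ⟨pushUnit j, (inferInstance : (pushUnit j).IsQuasicoherent)⟩) ψQ)
  let a : Γ(X, ⊤) := (kernel.ι p).app ⊤ (g.hom.app ⊤ (toUnit 1))
  have h0 : p.app ⊤ (toUnit a) = 0 := by
    change (kernel.ι p ≫ p).app ⊤ (g.hom.app ⊤ (toUnit 1)) = 0
    rw [kernel.condition]
    rfl
  have h1 : q.app ⊤ (toUnit a) = (1 : Γ(J.subscheme, j ⁻¹ᵁ ⊤)) := by
    change (g.hom ≫ ψ).app ⊤ (toUnit 1) = _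
    rw [hg]
    exact map_one (j.app ⊤).hom
  obtain ⟨z, hz⟩ : x ∈ Set.range j := by rw [hj]; exact Set.mem_singleton x
  refine ⟨a, hz ▸ mem_basicOpen_of_app_eq_one j a h1 z, ?_⟩
  have hle : X.basicOpen a ≤ U := fun y hy => by
    by_contra hyU
    obtain ⟨w, rfl⟩ : y ∈ Set.range i := by rw [hi]; exact hyU
    exact not_mem_basicOpen_of_app_eq_zero i a h0 w hy
  have h2 : X.basicOpen (resO X (le_top : U ≤ ⊤) a) = X.basicOpen a := by
    rw [resO, Scheme.basicOpen_res, inf_eq_right.mpr hle]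
  exact h2 ▸ hU.basicOpen _
where
  subsingleton_stalk_pushforward_unit {Z : Scheme.{u}} (i : Z ⟶ X) [IsClosedImmersion i] {y : X}
      (hy : y ∉ Set.range i) : Subsingleton ((pushUnit i).presheaf.stalk y) :=
    QCGroth72.subsingleton_stalk_pushforward i _ hy

/-- If the structure sheaf is projective among quasi-coherent modules, the scheme is affine. -/
theorem isAffine_of_projective_unit [CompactSpace X] [Projective (unitQC X)] : IsAffine X := by
  classical
  let S : Set Γ(X, ⊤) := {a | IsAffineOpen (X.basicOpen a)}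
  have hcov : ∀ y : X, ∃ a ∈ S, y ∈ X.basicOpen a := by
    intro y
    obtain ⟨x, hxy, hx⟩ := (isClosed_closure (s := ({y} : Set X))).exists_closed_singleton
      ⟨y, subset_closure rfl⟩
    obtain ⟨a, hxa, ha⟩ := exists_affine_basicOpen hx
    exact ⟨a, ha, (specializes_iff_mem_closure.mpr hxy).mem_open (X.basicOpen a).2 hxa⟩
  choose a ha hya using hcov
  obtain ⟨t, ht⟩ := isCompact_univ.elim_finite_subcover (fun y => (X.basicOpen (a y) : Set X))
    (fun y => (X.basicOpen (a y)).2) (fun y _ => Set.mem_iUnion.mpr ⟨y, hya y⟩)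
  refine isAffine_of_isAffineOpen_basicOpen (a '' t) ?_ (by rintro _ ⟨y, -, rfl⟩; exact ha y)
  let π : freeMod X t ⟶ unitMod X := Sigma.desc fun y : t =>
    (SheafOfModules.unitHomEquiv (R := X.ringCatSheaf) (unitMod X)).symm
      (PresheafOfModules.sectionsMk (fun V => resO X (le_top (a := V.unop)) (a y.1))
        (fun {V W} f => by exact resO_resO _ _ _))
  have hπι : ∀ (y : t) (W : X.Opens) (c : Γ(X, W)),
      (ιMod y ≫ π).app W (toUnit c) = toUnit (c * resO X le_top (a y.1)) := by
    intro y W c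
    simp only [π, ιMod, Sigma.ι_desc]
    rfl
  have : Epi π := by
    refine epi_of_surjective_stalkMapM _ fun y e => ?_
    obtain ⟨s, hs, hys⟩ := Set.mem_iUnion₂.mp (ht (Set.mem_univ y))
    obtain ⟨W, hyW, c, rfl⟩ := germM_exist e
    let V := W ⊓ X.basicOpen (a s)
    have hu : IsUnit (resO X (le_top : V ≤ ⊤) (a s)) := by
      have h0 : IsUnit (resO X (X.basicOpen_le (a s)) (a s)) :=
        RingedSpace.isUnit_res_basicOpen _ _
      have h1 := h0.map (X.presheaf.map (homOfLE (inf_le_right : V ≤ X.basicOpen (a s))).op).hom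
      change IsUnit (resO X inf_le_right (resO X (X.basicOpen_le (a s)) (a s))) at h1
      rwa [resO_resO] at h1
    obtain ⟨b, hb⟩ := hu.exists_left_inv
    refine ⟨germM _ V y ⟨hyW, hys⟩ ((ιMod ⟨s, hs⟩).app V
      (toUnit (resO X inf_le_left (show Γ(X, W) from c) * b))), ?_⟩
    rw [stalkMapM_germ, ← germM_res (inf_le_left : V ≤ W) ⟨hyW, hys⟩ c]
    refine congrArg (germM _ V y _) ?_
    change (ιMod ⟨s, hs⟩ ≫ π).app V _ = _
    rw [hπι, mul_assoc, hb, mul_one]
    rfl
  let πQ : (⟨freeMod X t, isQuasicoherent_coproduct _ fun _ => isQuasicoherent_unit⟩ :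
      QCohCat.QCoh X) ⟶ unitQC X := ObjectProperty.homMk π
  have : Epi πQ := by
    have : Epi ((QCohCat.isQCoh X).ι.map πQ) := (inferInstance : Epi π)
    exact (QCohCat.isQCoh X).ι.epi_of_epi_map inferInstance
  let g := Projective.factorThru (𝟙 (unitQC X)) πQ
  have hg : g.hom ≫ π = 𝟙 _ := congrArg (fun k => k.hom)
    (Projective.factorThru_comp (𝟙 (unitQC X)) πQ)
  obtain ⟨c, hc⟩ := exists_sum_eq_free π (g.hom.app ⊤ (toUnit 1))
  refine (Ideal.eq_top_iff_one _).mpr ?_
  have h1 : (1 : Γ(X, ⊤)) = ∑ y : t, c y * a y.1 := by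
    refine (congrArg (fun ψ => Scheme.Modules.Hom.app ψ ⊤ (toUnit (1 : Γ(X, ⊤)))) hg).symm.trans ?_
    change π.app ⊤ (g.hom.app ⊤ (toUnit 1)) = _
    rw [hc]
    refine Finset.sum_congr rfl fun y _ => ?_
    rw [res_self, hπι, one_mul]
    change toUnit (c y * resO X _ (a y.1)) = _
    rw [resO_self]
    rfl
  rw [h1]
  exact Ideal.sum_mem _ fun y _ => Ideal.mul_mem_left _ _ (Ideal.subset_span ⟨y.1, y.2, rfl⟩)

end Groth.Agent.QCAffine72
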