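import Groth.Agent.EW72.Basic
import Mathlib.RingTheory.Flat.Basic
import Mathlib.RingTheory.Flat.Stability
import Mathlib.Algebra.Module.Projective
import Mathlib.CategoryTheory.Adjunction.FullyFaithful

/-!
A module which becomes free of rank one under a jointly faithful family of exact localisation
functors is flat.
-/

set_option autoImplicit false

noncomputable section

universe u

open CategoryTheory Limits TensorProduct

namespace Groth.Agent.QCAffine72

open EW72

variable {R A : Type u} [CommRing R] [CommRing A]

/-- A natural endomorphism of a functor to modules with fully faithful right adjoint is a scalar. -/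
theorem exists_scalar (G : ModuleCat.{u} R ⥤ ModuleCat.{u} A) (H : ModuleCat.{u} A ⥤ ModuleCat.{u} R)
    (adj : G ⊣ H) [H.Full] [H.Faithful] (z : G ⟶ G) :
    ∃ a : A, ∀ (N : ModuleCat.{u} R) (x : G.obj N), (z.app N).hom x = a • x := by
  let w : 𝟭 (ModuleCat.{u} A) ⟶ 𝟭 (ModuleCat.{u} A) :=
    inv adj.counit ≫ Functor.whiskerLeft H z ≫ adj.counit
  refine ⟨((w.app (ModuleCat.of A A)).hom (1 : A) : A), fun N x => ?_⟩
  have h1 : z.app N = w.app (G.obj N) := by
    have hw : G.map (adj.unit.app N) ≫ adj.counit.app (G.obj N) = 𝟙 _ :=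
      adj.left_triangle_components N
    have hi : G.map (adj.unit.app N) = (inv adj.counit).app (G.obj N) := by
      rw [NatIso.isIso_inv_app]
      refine IsIso.eq_inv_of_hom_inv_id ((cancel_mono (adj.counit.app (G.obj N))).mp ?_)
      exact (Category.assoc _ _ _).trans ((congrArg (adj.counit.app (G.obj N) ≫ ·) hw).trans
        ((Category.comp_id _).trans (Category.id_comp _).symm))
    simp only [w, NatTrans.comp_app, Functor.whiskerLeft_app]
    rw [← hi]
    have hn := z.naturality (adj.unit.app N)
    erw [← Category.assoc, hn]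
    exact ((Category.assoc _ _ _).trans ((congrArg (z.app N ≫ ·) hw).trans (Category.comp_id _))).symm
  rw [h1]
  have hn := congrArg (fun k => k.hom (1 : A))
    (w.naturality (ModuleCat.ofHom (LinearMap.toSpanSingleton A (G.obj N) x)))
  simpa using hn

/-- The tensor product of the kernel module with `M` is flat if `G M` is free of rank one. -/
theorem flat_ker_tensor (G : ModuleCat.{u} R ⥤ ModuleCat.{u} A) (H : ModuleCat.{u} A ⥤ ModuleCat.{u} R)
    (adj : G ⊣ H) [H.Full] [H.Faithful] [G.Additive] [PreservesFiniteLimits G]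
    (M : ModuleCat.{u} R) [Module.Projective A (G.obj M)] :
    Module.Flat R (Ker G ⊗[R] M) := by
  classical
  have : PreservesColimitsOfSize.{u, u} G := adj.leftAdjoint_preservesColimits
  have : PreservesFiniteColimits G := PreservesColimitsOfSize.preservesFiniteColimits.{u, u} G
  have hflat : Module.Flat R (Ker G) := by
    rw [Module.Flat.iff_lTensor_preserves_injective_linearMap]
    intro N N' _ _ _ _ f hf
    have : Mono (ModuleCat.ofHom f) := (ModuleCat.mono_iff_injective _).mpr hf
    have hG := (ModuleCat.mono_iff_injective (G.map (ModuleCat.ofHom f))).mp inferInstance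
    intro a b h
    refine (eta_bijective G (ModuleCat.of R N)).1 (hG ?_)
    rw [← eta_natural, ← eta_natural]
    exact congrArg (eta G (ModuleCat.of R N')) h
  have hscal : ∀ r : R, ∃ a : A, (∀ k : Ker G, r • k = a • k) := by
    intro r
    let z : G ⟶ G :=
      { app := fun N => G.map (r • 𝟙 N)
        naturality := fun N N' f => by rw [← G.map_comp, ← G.map_comp]; simp }
    obtain ⟨a, ha⟩ := exists_scalar G H adj z
    exact ⟨a, fun k => ha (ModuleCat.of R R) k⟩
  choose a ha using hscal
  have hT : ∀ (r : R) (t : Ker G ⊗[R] M), r • t = a r • t := by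
    intro r t
    induction t using TensorProduct.induction_on with
    | zero => simp
    | tmul k m => rw [TensorProduct.smul_tmul', TensorProduct.smul_tmul', ha]
    | add x y hx hy => rw [smul_add, smul_add, hx, hy]
  have : Module.Projective A (Ker G ⊗[R] M) := Module.Projective.of_equiv (etaEquiv G M).symm
  let π : (M →₀ Ker G) →ₗ[A] Ker G ⊗[R] M :=
    Finsupp.lsum A fun m =>
      { toFun := fun k => k ⊗ₜ m
        map_add' := fun x y => add_tmul x y _
        map_smul' := fun b x => (TensorProduct.smul_tmul' b x _).symm }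
  have hπtmul : ∀ (k : Ker G) (m : M), π (Finsupp.single m k) = k ⊗ₜ m := fun k m => by
    simp [π]
  have hπ : Function.Surjective π := by
    intro t
    induction t using TensorProduct.induction_on with
    | zero => exact ⟨0, map_zero _⟩
    | tmul k m => exact ⟨_, hπtmul k m⟩
    | add x y hx hy =>
      obtain ⟨v, rfl⟩ := hx
      obtain ⟨w, rfl⟩ := hy
      exact ⟨v + w, map_add _ _ _⟩
  obtain ⟨s, hs⟩ := Module.projective_lifting_property π LinearMap.id hπ
  have haF : ∀ (r : R) (v : M →₀ Ker G), r • v = a r • v := fun r v =>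
    Finsupp.ext fun m => by simp [ha]
  let s' : Ker G ⊗[R] M →ₗ[R] (M →₀ Ker G) :=
    { toFun := fun t => s t
      map_add' := map_add s
      map_smul' := fun r t => by rw [RingHom.id_apply, hT, haF]; exact s.map_smul _ _ }
  let π' : (M →₀ Ker G) →ₗ[R] Ker G ⊗[R] M :=
    { toFun := fun v => π v
      map_add' := map_add π
      map_smul' := fun r t => by rw [RingHom.id_apply, hT, haF]; exact π.map_smul _ _ }
  have : Module.Flat R (M →₀ Ker G) := Module.Flat.of_linearEquiv (finsuppLEquivDirectSum R (Ker G) M)
  exact Module.Flat.of_retract s' π' (LinearMap.ext fun t => LinearMap.congr_fun hs t)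

/-- Flatness from a jointly faithful family of exact localisations sending `M` to projectives. -/
theorem flat_of_jointly_faithful {ι : Type*} (A : ι → Type u) [∀ i, CommRing (A i)]
    (G : ∀ i, ModuleCat.{u} R ⥤ ModuleCat.{u} (A i)) (H : ∀ i, ModuleCat.{u} (A i) ⥤ ModuleCat.{u} R)
    (adj : ∀ i, G i ⊣ H i) [∀ i, (H i).Full] [∀ i, (H i).Faithful] [∀ i, (G i).Additive]
    [∀ i, PreservesFiniteLimits (G i)]
    (hG : ∀ ⦃N N' : ModuleCat.{u} R⦄ (f : N ⟶ N'), (∀ i, (G i).map f = 0) → f = 0)
    (M : ModuleCat.{u} R) [∀ i, Module.Projective (A i) ((G i).obj M)] : Module.Flat R M := by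
  rw [Module.Flat.iff_lTensor_preserves_injective_linearMap]
  intro N N' _ _ _ _ f hf
  let φ : ModuleCat.of R (M ⊗[R] N) ⟶ ModuleCat.of R (M ⊗[R] N') :=
    ModuleCat.ofHom (LinearMap.lTensor M f)
  suffices Mono φ from (ModuleCat.mono_iff_injective φ).mp this
  refine Preadditive.mono_of_kernel_zero (hG _ fun i => ?_)
  have : PreservesColimitsOfSize.{u, u} (G i) := (adj i).leftAdjoint_preservesColimits
  have : PreservesFiniteColimits (G i) :=
    PreservesColimitsOfSize.preservesFiniteColimits.{u, u} (G i)
  have hfl := flat_ker_tensor (G i) (H i) (adj i) M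
  have hinj : Function.Injective (LinearMap.lTensor (Ker (G i)) (LinearMap.lTensor M f)) := by
    intro x y h
    refine (TensorProduct.assoc R (Ker (G i)) M N).symm.injective
      (Module.Flat.lTensor_preserves_injective_linearMap f hf ?_)
    rw [LinearMap.lTensor_tensor]
    simp only [LinearMap.comp_apply, LinearEquiv.coe_coe, LinearEquiv.apply_symm_apply]
    exact congrArg _ h
  have hm : Mono ((G i).map φ) := by
    refine (ModuleCat.mono_iff_injective _).mpr fun p q h => ?_
    obtain ⟨x, rfl⟩ := (eta_bijective (G i) _).2 p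
    obtain ⟨y, rfl⟩ := (eta_bijective (G i) _).2 q
    rw [← eta_natural, ← eta_natural] at h
    exact congrArg _ (hinj ((eta_bijective (G i) _).1 h))
  rw [← cancel_mono ((G i).map φ), ← (G i).map_comp, kernel.condition, (G i).map_zero, zero_comp]

end Groth.Agent.QCAffine72
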