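import Groth.Agent.QCGroth72.Separator
import Groth.Agent.ZClos93.Exact
import Groth.Agent.S9498
import Mathlib.CategoryTheory.Adjunction.Restrict
import Mathlib.CategoryTheory.Adjunction.FullyFaithful

/-!
Sections over an affine open as an exact functor on quasi-coherent modules with a fully faithful
right adjoint.
-/

set_option autoImplicit false
set_option backward.isDefEq.respectTransparency.types false

noncomputable section

universe u

open CategoryTheory Limits AlgebraicGeometry TopologicalSpace Opposite
open Groth.Agent.QC70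

namespace Groth.Agent.QCAffine72

variable {X : Scheme.{u}} {U : X.Opens} (hU : IsAffineOpen U)

/-- Sections over an affine open. -/
def sect : QCohCat.QCoh X ⥤ ModuleCat.{u} Γ(X, U) :=
  (QCohCat.isQCoh X).ι ⋙ Scheme.Modules.restrictFunctor hU.fromSpec ⋙ moduleSpecΓFunctor

/-- On quasi-coherent modules restriction is the tilde of the sections. -/
def restrictIso :
    (QCohCat.isQCoh X).ι ⋙ Scheme.Modules.restrictFunctor hU.fromSpec ≅
      sect hU ⋙ tilde.functor Γ(X, U) :=
  (NatIso.ofComponents
    (fun F : QCohCat.QCoh X => @asIso _ _ _ _ ((Scheme.Modules.restrictFunctor hU.fromSpec).obj F.obj).fromTildeΓ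
      (haveI : F.obj.IsQuasicoherent := F.property
       (isLocAt_iff_isIso_fromTildeΓ F.obj hU).mp (isLocAt_of_isQuasicoherent F.obj hU)))
    (fun φ => (tilde.adjunction (R := Γ(X, U))).counit.naturality
      ((Scheme.Modules.restrictFunctor hU.fromSpec).map
        ((QCohCat.isQCoh X).ι.map φ)))).symm

theorem preservesFiniteLimits_sect : PreservesFiniteLimits (sect hU) := by
  have := ZClos93.preservesFiniteLimits_restrictFunctor hU.fromSpec
  have : PreservesFiniteLimits (tilde.functor Γ(X, U)) :=
    (Groth.Agent.S9498.tilde_exact Γ(X, U)).1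
  have : PreservesFiniteLimits (sect hU ⋙ tilde.functor Γ(X, U)) :=
    preservesFiniteLimits_of_natIso (restrictIso hU)
  exact preservesFiniteLimits_of_reflects_of_preserves (sect hU) (tilde.functor Γ(X, U))

instance : (sect hU).Additive :=
  have := preservesFiniteLimits_sect hU
  have := preservesBinaryBiproducts_of_preservesBinaryProducts (sect hU)
  Functor.additive_of_preservesBinaryBiproducts _

theorem eq_zero_of_sect_map {ι : Type*} (U : ι → X.Opens) (hU : ∀ i, IsAffineOpen (U i))
    (hcov : ⨆ i, U i = ⊤) {M N : QCohCat.QCoh X} (f : M ⟶ N)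
    (h : ∀ i, (sect (hU i)).map f = 0) : f = 0 := by
  refine (QCohCat.isQCoh X).ι.map_injective ?_
  rw [Functor.map_zero]
  have : ((QCohCat.isQCoh X).ι.obj M).IsQuasicoherent := M.property
  refine QCFilt72.hom_eq_zero_of_sections _ U hU hcov fun i t => ?_
  have himTop : (hU i).fromSpec ''ᵁ ⊤ = U i := by
    rw [Scheme.Hom.image_top_eq_opensRange, (hU i).opensRange_fromSpec]
  obtain ⟨y', hy'⟩ := (ConcreteCategory.bijective_of_isIso
    (M.obj.restrictAppIso (hU i).fromSpec ⊤).hom).2 (res M.obj himTop.le t)
  have h2 : f.hom.app ((hU i).fromSpec ''ᵁ ⊤) (res M.obj himTop.le t) = 0 := by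
    rw [← hy']
    exact congrArg (fun ψ => (N.obj.restrictAppIso (hU i).fromSpec ⊤).hom (ψ.hom y')) (h i) |>.trans
      (map_zero _)
  have h4 := congrArg (res N.obj himTop.ge) h2
  rw [← app_res, res_res, res_self, res_zero] at h4
  exact h4

section

variable [QuasiSeparatedSpace X]

/-- The direct image of modules on an affine open. -/
def ext : ModuleCat.{u} Γ(X, U) ⥤ QCohCat.QCoh X :=
  ObjectProperty.lift _ (tilde.functor Γ(X, U) ⋙ Scheme.Modules.pushforward hU.fromSpec) fun N =>
    haveI : (tilde N).IsQuasicoherent := inferInstance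
    haveI := QCFilt72.quasiCompact_fromSpec hU
    QCqs72.isQuasicoherent_pushforward (M := tilde N) hU.fromSpec

/-- Sections are left adjoint to the direct image. -/
def sectAdj : sect hU ⊣ ext hU :=
  (Scheme.Modules.restrictAdjunction hU.fromSpec).restrictFullyFaithful
    (QCohCat.isQCoh X).fullyFaithfulι tilde.fullyFaithfulFunctor
    (restrictIso hU) (Iso.refl _)

instance : (ext hU).Faithful :=
  have : (ext hU ⋙ (QCohCat.isQCoh X).ι).Faithful :=
    inferInstanceAs (tilde.functor Γ(X, U) ⋙ Scheme.Modules.pushforward hU.fromSpec).Faithful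
  Functor.Faithful.of_comp (ext hU) (QCohCat.isQCoh X).ι

instance : (ext hU).Full :=
  have : (ext hU ⋙ (QCohCat.isQCoh X).ι).Full :=
    inferInstanceAs (tilde.functor Γ(X, U) ⋙ Scheme.Modules.pushforward hU.fromSpec).Full
  Functor.Full.of_comp_faithful (ext hU) (QCohCat.isQCoh X).ι

end

end Groth.Agent.QCAffine72
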